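import Mathlib

/-!
# Closed sets of affine space invariant under elementary automorphisms
-/

set_option autoImplicit false

namespace Groth.Agent.OrbitAffLib

open MvPolynomial

variable {k : Type*} [Field k] {n : ℕ} {K : Type*} [Field K] [Algebra k K]

/-- The common zeros of an ideal. -/
def Zs (K : Type*) [Field K] [Algebra k K] (I : Ideal (MvPolynomial (Fin n) k)) : Set (Fin n → K) :=
  {a | ∀ f ∈ I, aeval a f = 0}

variable {I : Ideal (MvPolynomial (Fin n) k)}

theorem line_mem {a : Fin n → K} {i : Fin n} {T : Set K} (hT : T.Infinite)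
    (h : ∀ c ∈ T, Function.update a i c ∈ Zs K I) (c : K) : Function.update a i c ∈ Zs K I := by
  intro f hf
  let v : Fin n → Polynomial K := Function.update (fun l => Polynomial.C (a l)) i Polynomial.X
  have hev : ∀ c : K, (aeval v f : Polynomial K).eval c = aeval (Function.update a i c) f := by
    intro c
    have h1 := comp_aeval_apply v ((Polynomial.aeval c : Polynomial K →ₐ[K] K).restrictScalars k) f
    simp only [AlgHom.restrictScalars_apply, Polynomial.coe_aeval_eq_eval] at h1
    rw [h1]
    have h2 : (fun l => Polynomial.eval c (v l)) = Function.update a i c := by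
      funext l
      by_cases hl : l = i
      · subst hl; simp [v]
      · simp [v, Function.update_of_ne hl]
    rw [h2]
  have h0 : (aeval v f : Polynomial K) = 0 :=
    Polynomial.eq_zero_of_infinite_isRoot _ (hT.mono fun c hc => by
      simp only [Set.mem_setOf_eq, Polynomial.IsRoot.def, hev]
      exact h c hc f hf)
  rw [← hev, h0, Polynomial.eval_zero]

theorem eq_bot_of_lines (hn : 2 ≤ n) (S : Set K) (hS : S.Infinite)
    (hline : ∀ a ∈ Zs K I, ∀ i j : Fin n, i ≠ j → a j ∈ S → ∀ c : K, Function.update a i c ∈ Zs K I)
    {a : Fin n → K} (ha : a ∈ Zs K I) {j : Fin n} (hj : a j ∈ S) : I = ⊥ := by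
  have hbox : ∀ b : Fin n → K, (∀ i, b i ∈ S) → b ∈ Zs K I := by
    intro b hb
    have hset : ∀ s : Finset (Fin n), j ∉ s → s.piecewise b a ∈ Zs K I := by
      intro s
      induction s using Finset.induction_on with
      | empty => intro _; simpa using ha
      | insert i s his ih =>
        intro hjs
        rw [Finset.mem_insert, not_or] at hjs
        rw [Finset.piecewise_insert]
        exact hline _ (ih hjs.2) i j (Ne.symm hjs.1) (by simpa [hjs.2] using hj) _
    have h1 := hset (Finset.univ.erase j) (by simp)
    haveI : Nontrivial (Fin n) := Fin.nontrivial_iff_two_le.2 hn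
    obtain ⟨i0, hi0⟩ := exists_ne j
    have h2 := hline _ h1 j i0 (Ne.symm hi0) (by simpa [hi0] using hb i0) (b j)
    convert h2 using 1
    funext l
    by_cases hl : l = j
    · subst hl; simp
    · simp [Function.update_of_ne hl, hl]
  refine (Submodule.eq_bot_iff I).2 fun f hf => ?_
  apply MvPolynomial.map_injective (algebraMap k K) (algebraMap k K).injective
  rw [map_zero]
  refine funext_set (fun _ => S) (fun _ => hS) fun x hx => ?_
  rw [eval_map, map_zero, ← aeval_def]
  exact hbox x (fun i => hx i trivial) f hf

variable (hinv : ∀ a ∈ Zs K I, ∀ i j : Fin n, i ≠ j → ∀ d : ℕ, Function.update a i (a i + a j ^ d) ∈ Zs K I)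

include hinv in
theorem eq_bot_of_charZero [CharZero K] (hn : 2 ≤ n) {a : Fin n → K} (ha : a ∈ Zs K I) : I = ⊥ := by
  refine eq_bot_of_lines hn Set.univ Set.infinite_univ (fun b hb i j hij _ => ?_) ha (j := ⟨0, by omega⟩) trivial
  refine line_mem (T := Set.range fun m : ℕ => b i + m)
    (Set.infinite_range_of_injective fun m m' h => Nat.cast_injective (R := K) (add_left_cancel h)) ?_
  rintro c ⟨m, rfl⟩
  induction m with
  | zero => simpa using hb
  | succ m ih =>
    have := hinv _ ih i j hij 0
    rw [Function.update_self, pow_zero, Function.update_idem] at this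
    simpa [add_assoc] using this

include hinv in
theorem eq_bot_of_transcendental (p : ℕ) [Fact p.Prime] [Algebra (ZMod p) K] (hn : 2 ≤ n) {a : Fin n → K}
    (ha : a ∈ Zs K I) {j : Fin n} (hj : Transcendental (ZMod p) (a j)) : I = ⊥ := by
  have hpow : ∀ t : K, Transcendental (ZMod p) t → Function.Injective fun d : ℕ => t ^ d := by
    intro t ht d d' h
    have h2 : (Polynomial.X ^ d : Polynomial (ZMod p)) = Polynomial.X ^ d' :=
      transcendental_iff_injective.1 ht (by simpa using h)
    simpa using congrArg Polynomial.natDegree h2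
  refine eq_bot_of_lines hn {t : K | Transcendental (ZMod p) t} ?_ (fun b hb i l hil hl => ?_) ha hj
  · refine (Set.infinite_range_of_injective (f := fun d : ℕ => a j ^ (d + 1))
      fun d d' h => Nat.succ_injective (hpow _ hj h)).mono ?_
    rintro c ⟨d, rfl⟩
    exact hj.pow d.succ_pos
  · refine line_mem (T := Set.range fun d : ℕ => b i + b l ^ d)
      (Set.infinite_range_of_injective fun d d' h => hpow _ hl (add_left_cancel h)) ?_
    rintro c ⟨d, rfl⟩
    exact hinv b hb i l hil d

theorem exists_pow_pow_eq (p : ℕ) [hp : Fact p.Prime] [Algebra (ZMod p) K] {t : K}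
    (ht : ¬ Transcendental (ZMod p) t) : ∃ m : ℕ, 0 < m ∧ t ^ (p ^ m) = t := by
  have hint : IsIntegral (ZMod p) t := isAlgebraic_iff_isIntegral.1 (not_not.1 ht)
  haveI := IntermediateField.adjoin.finiteDimensional hint
  let L := IntermediateField.adjoin (ZMod p) ({t} : Set K)
  haveI : Finite L := Module.finite_of_finite (ZMod p)
  letI : Fintype L := Fintype.ofFinite L
  haveI : CharP L p := charP_of_injective_algebraMap (algebraMap (ZMod p) L).injective p
  obtain ⟨m, -, hm⟩ := FiniteField.card L p
  exact ⟨m, m.pos, by
    have h := FiniteField.pow_card (⟨t, IntermediateField.mem_adjoin_simple_self (ZMod p) t⟩ : L)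
    rw [hm] at h
    exact congrArg Subtype.val h⟩

end Groth.Agent.OrbitAffLib
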