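import Groth.Agent.OrbitAffLib.Basic

/-!
# Invariant open sets of affine space
-/

set_option autoImplicit false
set_option maxHeartbeats 1000000

universe u

namespace Groth.Agent.OrbitAffLib

theorem invariant_open (k : Type u) [Field k] (n : ℕ) (hn : 2 ≤ n)
    (Ws : Set (PrimeSpectrum (MvPolynomial (Fin n) k))) (hWo : IsClosed Wsᶜ) (hW : Ws.Nonempty)
    (hinv : ∀ (i j : Fin n), i ≠ j → ∀ (d : ℕ) (z : PrimeSpectrum (MvPolynomial (Fin n) k)),
      PrimeSpectrum.comap (MvPolynomial.aeval (R := k)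
        (Function.update MvPolynomial.X i (MvPolynomial.X i + MvPolynomial.X j ^ d) :
          Fin n → MvPolynomial (Fin n) k)).toRingHom z ∈ Ws ↔ z ∈ Ws) :
    Ws = Set.univ ∨ ∃ p : ℕ, p.Prime ∧ CharP k p ∧ Wsᶜ.Finite ∧
      ∀ x : PrimeSpectrum (MvPolynomial (Fin n) k), x ∉ Ws →
        IsClosed ({x} : Set (PrimeSpectrum (MvPolynomial (Fin n) k))) ∧ ∀ i : Fin n, ∃ m : ℕ, 0 < m ∧
          (algebraMap (MvPolynomial (Fin n) k) x.asIdeal.ResidueField (MvPolynomial.X i)) ^ (p ^ m) =
            algebraMap (MvPolynomial (Fin n) k) x.asIdeal.ResidueField (MvPolynomial.X i) := by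
  classical
  obtain ⟨I, hI⟩ := (PrimeSpectrum.isClosed_iff_zeroLocus_ideal _).1 hWo
  have hmem : ∀ x : PrimeSpectrum (MvPolynomial (Fin n) k), x ∉ Ws ↔ I ≤ x.asIdeal := fun x => by
    rw [← Set.mem_compl_iff, hI]; rfl
  by_cases hZ : ∀ x, x ∈ Ws
  · exact Or.inl (Set.eq_univ_of_forall hZ)
  push_neg at hZ
  obtain ⟨x₀, hx₀⟩ := hZ
  right
  have hIne : I ≠ ⊥ := by
    rintro rfl
    obtain ⟨w, hw⟩ := hW
    exact (hmem w).2 bot_le hw
  have hT : ∀ (K : Type u) [Field K] [Algebra k K] (a : Fin n → K), a ∈ Zs K I →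
      ∀ i j : Fin n, i ≠ j → ∀ d : ℕ,
        Function.update a i (a i + a j ^ d) ∈ Zs K I := by
    intro K _ _ a ha i j hij d
    let φ : MvPolynomial (Fin n) k →ₐ[k] MvPolynomial (Fin n) k :=
      MvPolynomial.aeval (Function.update MvPolynomial.X i (MvPolynomial.X i + MvPolynomial.X j ^ d) :
          Fin n → MvPolynomial (Fin n) k)
    let z : PrimeSpectrum (MvPolynomial (Fin n) k) :=
      ⟨RingHom.ker (MvPolynomial.aeval (R := k) a).toRingHom, RingHom.ker_isPrime _⟩
    have hz : z ∉ Ws := (hmem z).2 fun f hf => ha f hf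
    have hz' : PrimeSpectrum.comap φ.toRingHom z ∉ Ws := fun h => hz ((hinv i j hij d z).1 h)
    intro f hf
    have h3 : MvPolynomial.aeval a (φ f) = 0 := (hmem _).1 hz' hf
    rw [MvPolynomial.comp_aeval_apply] at h3
    rw [← h3]
    congr 1
    apply congrArg
    funext l
    by_cases hl : l = i
    · subst hl; simp
    · simp [Function.update_of_ne hl]
  have hcoord : ∀ x : PrimeSpectrum (MvPolynomial (Fin n) k), x ∉ Ws →
      (fun i => algebraMap (MvPolynomial (Fin n) k) x.asIdeal.ResidueField (MvPolynomial.X i)) ∈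
        Zs x.asIdeal.ResidueField I := by
    intro x hx f hf
    have h1 : MvPolynomial.aeval
        (fun i => algebraMap (MvPolynomial (Fin n) k) x.asIdeal.ResidueField (MvPolynomial.X i)) f =
        algebraMap (MvPolynomial (Fin n) k) x.asIdeal.ResidueField f :=
      congrArg (fun g : MvPolynomial (Fin n) k →ₐ[k] x.asIdeal.ResidueField => g f)
        (MvPolynomial.algHom_ext (f := MvPolynomial.aeval _)
          (g := IsScalarTower.toAlgHom k (MvPolynomial (Fin n) k) x.asIdeal.ResidueField) (fun i => by simp))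
    rw [h1, ← RingHom.mem_ker, Ideal.ker_algebraMap_residueField]
    exact (hmem x).1 hx hf
  obtain ⟨p, hp⟩ := CharP.exists k
  rcases CharP.char_is_prime_or_zero k p with hpp | rfl
  swap
  · exfalso
    haveI := CharP.charP_to_charZero k
    haveI : CharZero x₀.asIdeal.ResidueField :=
      charZero_of_injective_algebraMap (algebraMap k x₀.asIdeal.ResidueField).injective
    exact hIne (eq_bot_of_charZero (hT _) hn (hcoord x₀ hx₀))
  haveI := Fact.mk hpp
  have key : ∀ x : PrimeSpectrum (MvPolynomial (Fin n) k), x ∉ Ws → ∀ i, ∃ m : ℕ, 0 < m ∧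
      (algebraMap (MvPolynomial (Fin n) k) x.asIdeal.ResidueField (MvPolynomial.X i)) ^ (p ^ m) =
        algebraMap (MvPolynomial (Fin n) k) x.asIdeal.ResidueField (MvPolynomial.X i) := by
    intro x hx i
    haveI : CharP x.asIdeal.ResidueField p :=
      charP_of_injective_algebraMap (algebraMap k x.asIdeal.ResidueField).injective p
    letI := ZMod.algebra x.asIdeal.ResidueField p
    refine exists_pow_pow_eq p fun ht => hIne ?_
    exact eq_bot_of_transcendental (hT _) p hn (hcoord x hx) (j := i) ht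
  have hmax : ∀ x : PrimeSpectrum (MvPolynomial (Fin n) k), x ∉ Ws → x.asIdeal.IsMaximal := by
    intro x hx
    haveI : Algebra.IsIntegral k (MvPolynomial (Fin n) k ⧸ x.asIdeal) := ⟨fun q => by
      obtain ⟨f, rfl⟩ := Ideal.Quotient.mk_surjective q
      induction f using MvPolynomial.induction_on with
      | C c => exact isIntegral_algebraMap (R := k) (x := c)
      | add f g hf hg => rw [map_add]; exact hf.add hg
      | mul_X f i hf =>
        rw [map_mul]
        refine hf.mul ?_
        obtain ⟨m, hm, he⟩ := key x hx i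
        have h1 : 1 < p ^ m := Nat.one_lt_pow hm.ne' hpp.one_lt
        refine ⟨Polynomial.X ^ (p ^ m) - Polynomial.X,
          Polynomial.monic_X_pow_sub (by rw [Polynomial.degree_X]; exact_mod_cast h1), ?_⟩
        simp only [Polynomial.eval₂_sub, Polynomial.eval₂_X_pow, Polynomial.eval₂_X, ← map_pow, ← map_sub]
        rw [Ideal.Quotient.eq_zero_iff_mem, ← Ideal.ker_algebraMap_residueField x.asIdeal, RingHom.mem_ker,
          map_sub, map_pow, he, sub_self]⟩
    exact Ideal.Quotient.maximal_of_isField _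
      (isField_of_isIntegral_of_isField' (R := k) (Field.toIsField k))
  refine ⟨p, hpp, hp, ?_, fun x hx => ⟨(PrimeSpectrum.isClosed_singleton_iff_isMaximal x).2 (hmax x hx), key x hx⟩⟩
  refine ((Ideal.finite_minimalPrimes_of_isNoetherianRing (MvPolynomial (Fin n) k) I).preimage
    (f := fun x : PrimeSpectrum (MvPolynomial (Fin n) k) => x.asIdeal)
    (fun x _ y _ h => PrimeSpectrum.ext h)).subset fun x hx => ?_
  obtain ⟨q, hq, hqx⟩ := Ideal.exists_minimalPrimes_le ((hmem x).1 hx)
  have hqW : (⟨q, hq.1.1⟩ : PrimeSpectrum (MvPolynomial (Fin n) k)) ∉ Ws := (hmem _).2 hq.1.2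
  have he : q = x.asIdeal := (hmax _ hqW).eq_of_le x.isPrime.ne_top hqx
  show x.asIdeal ∈ I.minimalPrimes
  rwa [← he]

end Groth.Agent.OrbitAffLib
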